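import Cfsg.Agent.R2.T1.N7.H.Mach

/-!
# S5929, `n = 7`, `p = 3`: tables (helper23, generated)

`q24, W24, U24` : the cosets of `⟨lc⟩` in `L = ⟨l42, lc⟩`; `q7, ..` : of `⟨l42, lr⟩` in `L`; `q15, ..` : of `L` in `A₇`;
`q72, ..` : of `⟨l5⟩` in `⟨l5, l42⟩ = A₆`.
-/

set_option autoImplicit false
set_option maxRecDepth 100000

namespace Cfsg.Agent.R2.T1.N7H

open Cfsg.Agent.R2.T1.Odd

/-- the generators -/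
def g4 : List (List (ℕ × ℕ)) := [l5, l42, lc, lr]

def W24 : List (List ℕ) := [[], [1], [3], [1, 1], [2, 1], [3, 1], [1, 3], [3, 3], [1, 1, 1], [2, 1, 1], [1, 2,
  1], [2, 2, 1], [3, 2, 1], [1, 3, 1], [2, 3, 1], [3, 3, 1], [1, 3, 3], [1, 2, 1, 1], [2, 2, 1, 1], [3, 2, 1,
  1], [3, 1, 2, 1], [1, 2, 2, 1], [3, 2, 2, 1], [3, 1, 3, 1]]

def q24 (s : ℕ) : List ℕ := ([[], [8, 0, 15, 1, 17, 12, 2, 22, 3, 10, 4, 23, 18, 5, 6, 14, 7, 9, 13, 16, 21,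
  11, 19, 20], [0, 8, 2, 17, 1, 21, 15, 7, 10, 3, 23, 4, 14, 6, 5, 18, 22, 13, 9, 11, 12, 16, 20, 19], [7, 15,
  0, 12, 3, 1, 22, 2, 17, 21, 18, 6, 4, 14, 23, 5, 8, 16, 20, 9, 10, 19, 11, 13]] : List (List ℕ)).getD s []

def U24 (s : ℕ) : List (List ℕ) := ([[], [[], [], [], [], [2], [2, 2, 2, 2], [], [2, 2, 2], [], [2, 2, 2, 2,
  2, 2], [], [2, 2, 2, 2], [2, 2, 2, 2, 2], [], [2, 2], [2, 2, 2, 2, 2], [], [], [2, 2, 2, 2, 2], [2, 2], [2,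
  2, 2, 2, 2, 2], [], [2, 2], [2, 2, 2, 2]], [[2], [2, 2, 2, 2, 2, 2], [2, 2, 2, 2], [2], [], [2], [2, 2, 2],
  [2, 2], [2, 2, 2, 2, 2, 2], [], [2, 2, 2, 2], [], [], [2, 2], [], [2, 2, 2], [2], [2, 2, 2, 2, 2], [], [2,
  2, 2, 2], [2, 2], [2, 2, 2, 2, 2], [2, 2, 2, 2, 2], [2]], [[], [], [], [2, 2, 2, 2], [2, 2, 2], [], [2, 2,
  2], [], [2, 2, 2, 2, 2], [2, 2, 2, 2, 2], [2, 2, 2, 2, 2], [2, 2, 2, 2], [], [2, 2, 2, 2, 2], [2, 2], [],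
  [], [2, 2], [2, 2], [], [], [2, 2], [], []]] : List (List (List ℕ))).getD s []

theorem chk24 : chkF g4 [1, 2, 3] [2] 24 q24 W24 U24 = true := by decide +kernel

theorem perm24 : ∀ s ∈ [1, 2, 3], (q24 s).Perm (List.range 24) := by decide +kernel

def W7 : List (List ℕ) := [[], [2], [1, 2], [1, 1, 2], [3, 1, 2], [1, 1, 1, 2], [1, 3, 1, 2]]

def q7 (s : ℕ) : List ℕ := ([[], [0, 5, 1, 2, 6, 3, 4], [5, 0, 1, 2, 3, 6, 4], [0, 4, 1, 6, 2, 3, 5]] : List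
  (List ℕ)).getD s []

def U7 (s : ℕ) : List (List ℕ) := ([[], [[1], [], [], [], [1, 3, 3], [], []], [[1], [], [1, 3, 1, 1], [1, 1],
  [3, 1, 1], [1], [3, 1, 3]], [[3], [1, 1, 3, 1], [1, 1, 3, 1], [1, 3, 3], [], [3, 1, 3, 1], [1, 1, 3, 1]]] :
  List (List (List ℕ))).getD s []

theorem chk7 : chkF g4 [1, 2, 3] [1, 3] 7 q7 W7 U7 = true := by decide +kernel

theorem perm7 : ∀ s ∈ [1, 2, 3], (q7 s).Perm (List.range 7) := by decide +kernel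

def W15 : List (List ℕ) := [[], [0], [0, 0], [1, 0], [2, 0], [0, 0, 0], [1, 0, 0], [1, 1, 0], [2, 2, 0], [1,
  0, 0, 0], [2, 0, 0, 0], [0, 1, 0, 0], [1, 1, 0, 0], [0, 2, 2, 0], [1, 2, 2, 0]]

def q15 (s : ℕ) : List ℕ := ([[3, 0, 1, 5, 14, 2, 7, 4, 10, 13, 12, 6, 9, 8, 11], [0, 4, 13, 1, 7, 14, 2, 3,
  9, 5, 11, 10, 6, 12, 8], [0, 9, 3, 7, 1, 6, 2, 13, 4, 11, 5, 12, 14, 10, 8], []] : List (List ℕ)).getD s []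

def U15 (s : ℕ) : List (List ℕ) := ([[[2, 1, 1, 2, 2, 1, 1], [], [], [1, 2, 1, 1, 2, 2, 1, 1, 1], [2, 2, 2, 2,
  2], [], [2, 1, 1, 2, 2, 1], [1, 1, 2, 2, 1, 1, 2, 2], [2, 1, 2, 2, 2, 1], [1, 2, 2, 2, 1, 2, 1], [2, 2, 1,
  1, 2, 2], [], [2, 1, 1, 2, 2], [], [2, 2, 2, 2, 2]], [[1], [1, 2, 2, 2, 1, 1, 2], [1, 1, 1, 2, 2, 2, 1], [],
  [2, 2, 1, 1, 2, 2, 2, 1], [1, 1, 1, 2, 2], [], [], [1, 2, 1, 2, 2], [], [1, 1, 2, 2, 2, 1, 1], [1, 2, 2, 1,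
  2, 2, 2], [], [2, 1, 2, 2, 1, 1, 2], []], [[2], [1, 2, 2, 2, 1, 2], [2, 1, 1, 2, 2, 2, 1, 2], [2, 2, 1, 1,
  2, 2, 2, 1], [], [2, 1, 2, 1], [1, 2, 1, 1], [1, 1, 2, 2, 1, 1, 1], [], [1, 1, 2, 2, 2, 1, 1], [], [1, 1, 2,
  2, 2, 1, 2], [2, 2, 2], [1, 1, 2, 1], [1, 2, 1, 2, 2, 2]], []] : List (List (List ℕ))).getD s []

theorem chk15 : chkF g4 [0, 1, 2] [1, 2] 15 q15 W15 U15 = true := by decide +kernel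

theorem perm15 : ∀ s ∈ [0, 1, 2], (q15 s).Perm (List.range 15) := by decide +kernel

def W72 : List (List ℕ) := [[], [1], [0, 1], [1, 1], [0, 0, 1], [1, 0, 1], [0, 1, 1], [1, 1, 1], [0, 0, 0, 1],
  [1, 0, 0, 1], [0, 1, 0, 1], [1, 1, 0, 1], [0, 0, 1, 1], [1, 0, 1, 1], [0, 1, 1, 1], [0, 0, 0, 0, 1], [1, 0,
  0, 0, 1], [0, 1, 0, 0, 1], [1, 1, 0, 0, 1], [0, 0, 1, 0, 1], [1, 1, 1, 0, 1], [0, 0, 0, 1, 1], [1, 0, 0, 1,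
  1], [0, 1, 0, 1, 1], [1, 1, 0, 1, 1], [0, 0, 1, 1, 1], [1, 0, 1, 1, 1], [1, 1, 0, 0, 0, 1], [1, 0, 1, 0, 0,
  1], [0, 1, 1, 0, 0, 1], [1, 1, 1, 0, 0, 1], [0, 0, 0, 1, 0, 1], [1, 0, 0, 1, 0, 1], [0, 1, 1, 1, 0, 1], [0,
  0, 0, 0, 1, 1], [1, 0, 0, 0, 1, 1], [0, 1, 0, 0, 1, 1], [0, 0, 1, 0, 1, 1], [1, 0, 1, 0, 1, 1], [0, 1, 1, 0,
  1, 1], [1, 1, 1, 0, 1, 1], [1, 0, 0, 1, 1, 1], [0, 1, 0, 1, 1, 1], [1, 1, 0, 1, 1, 1], [0, 1, 1, 0, 0, 0,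
  1], [1, 1, 1, 0, 0, 0, 1], [1, 1, 0, 1, 0, 0, 1], [1, 0, 1, 1, 0, 0, 1], [0, 1, 1, 1, 0, 0, 1], [0, 0, 0, 0,
  1, 0, 1], [1, 1, 0, 0, 1, 0, 1], [1, 0, 1, 1, 1, 0, 1], [1, 0, 1, 0, 0, 1, 1], [1, 0, 0, 1, 0, 1, 1], [1, 1,
  0, 1, 0, 1, 1], [0, 1, 0, 0, 1, 1, 1], [1, 1, 0, 0, 1, 1, 1], [0, 0, 1, 0, 1, 1, 1], [1, 0, 1, 0, 1, 1, 1],
  [0, 0, 1, 1, 1, 0, 0, 1], [1, 0, 1, 1, 1, 0, 0, 1], [0, 1, 1, 0, 0, 1, 0, 1], [0, 1, 0, 1, 1, 1, 0, 1], [1,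
  1, 0, 1, 1, 1, 0, 1], [1, 1, 0, 0, 1, 0, 1, 1], [1, 1, 1, 0, 1, 0, 1, 1], [1, 1, 1, 0, 0, 1, 1, 1], [1, 1,
  0, 1, 0, 1, 1, 1], [1, 0, 1, 0, 1, 1, 1, 0, 1], [0, 1, 1, 0, 0, 1, 0, 1, 1], [1, 1, 1, 0, 0, 1, 0, 1, 1],
  [1, 1, 0, 1, 0, 1, 1, 1, 0, 1]]

def q72 (s : ℕ) : List ℕ := ([[0, 15, 1, 34, 2, 49, 3, 17, 4, 25, 5, 37, 6, 16, 7, 8, 11, 9, 59, 10, 43, 12,
  55, 13, 62, 14, 28, 35, 40, 18, 29, 19, 33, 20, 21, 56, 22, 23, 32, 24, 57, 45, 26, 38, 27, 36, 66, 39, 30,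
  31, 70, 47, 67, 46, 44, 41, 54, 42, 53, 48, 52, 50, 51, 58, 60, 61, 63, 69, 65, 64, 68, 71], [7, 0, 20, 1,
  30, 2, 40, 3, 45, 4, 46, 5, 35, 6, 15, 43, 8, 10, 9, 59, 11, 22, 12, 65, 13, 66, 14, 16, 17, 39, 18, 47, 19,
  34, 63, 21, 55, 70, 23, 31, 24, 25, 44, 26, 67, 27, 28, 29, 49, 57, 32, 33, 36, 37, 38, 61, 41, 60, 42, 50,
  48, 52, 69, 51, 53, 54, 56, 58, 62, 71, 64, 68], [], []] : List (List ℕ)).getD s []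

def U72 (s : ℕ) : List (List ℕ) := ([[[0], [], [], [], [], [], [], [0, 0, 0], [], [0, 0], [], [0, 0, 0], [],
  [0], [], [], [0], [], [0, 0, 0], [], [0, 0, 0], [], [0, 0], [], [0, 0, 0], [], [0, 0], [0], [0, 0], [], [0,
  0], [], [0], [], [], [0, 0, 0, 0], [], [], [], [], [0], [0, 0, 0], [], [0], [], [], [0, 0, 0], [], [], [],
  [], [0, 0], [0, 0], [0], [0, 0], [], [0, 0, 0], [], [], [], [], [], [], [], [0, 0, 0, 0], [0], [0], [0, 0,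
  0, 0], [0, 0], [], [0, 0], [0, 0, 0, 0]], [[], [], [], [], [], [], [], [], [], [], [0, 0, 0, 0], [], [0, 0],
  [], [0], [0, 0, 0, 0], [], [0], [], [0, 0], [], [0, 0, 0], [], [], [], [], [], [], [], [0, 0], [], [0, 0,
  0], [], [], [], [], [0, 0, 0, 0], [], [], [], [], [], [0, 0, 0], [], [0, 0], [], [], [], [], [0], [], [],
  [], [], [], [0, 0, 0, 0], [], [0, 0, 0, 0], [], [0, 0, 0], [], [0, 0], [0, 0, 0, 0], [], [], [], [], [], [],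
  [0], [], []], [], []] : List (List (List ℕ))).getD s []

theorem chk72 : chkF g4 [0, 1] [0] 72 q72 W72 U72 = true := by decide +kernel

theorem perm72 : ∀ s ∈ [0, 1], (q72 s).Perm (List.range 72) := by decide +kernel

/-- the norm of `⟨lc⟩` -/
def e7 : Ex := .hn (.gen 2) 6

/-- the norm of the Klein four-group -/
def eV : Ex := .mul (.add .one (.wdE [1, 1])) (.add .one (.wdE [3, 1, 1, 3, 3]))

def kap : Ex := .cb [(1, []), (2, [1]), (2, [1, 3]), (2, [3, 1])]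

def w1 : Ex := .mul eV (.gen 2)

def bb : Ex := .mul (.mul eV (.add .one (.gen 1))) (.cb [(1, []), (1, [2]), (2, [3]), (2, [3, 3, 2])])

/-- the norm of `⟨l42⟩` -/
def e4 : Ex := .hn (.gen 1) 3

def bp : Ex := .neg (.mul (.hn (.gen 0) 4) (.cb [(1, []), (2, [1, 0, 1, 1, 1, 0]), (2, [1, 1, 0, 0]), (2, [1,
  1, 0]), (2, [1, 0, 0, 0]), (2, [1, 1, 1, 0, 0]), (1, [1, 0, 0, 1, 1, 0]), (1, [1, 0, 1, 0, 0]), (1, [1, 0,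
  0, 1, 1, 1, 0]), (2, [1, 1, 0, 1, 0, 0])]))

def eps : Ex := .add e4 (.neg (.mul e4 (.mul bp e4)))

theorem c24 : (Ex.mul e7 (.mul eV kap)).act q24 (dl 24 0) = dl 24 0 := by decide +kernel

theorem c7a : (Ex.mul e7 w1).act q7 (dl 7 0) = [1, 1, 1, 1, 1, 1, 1] := by decide +kernel

theorem c7b : (Ex.mul bb w1).act q7 (dl 7 0) = [0, 2, 2, 2, 2, 2, 2] := by decide +kernel

theorem c7c : (Ex.mul bb (.mul (.gen 3) w1)).act q7 (dl 7 0) = [0, 0, 0, 0, 0, 0, 0] := by decide +kernel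

theorem c7d : (Ex.mul bb (.mul (.gen 3) (.mul (.gen 3) w1))).act q7 (dl 7 0) = [0, 0, 0, 0, 0, 0, 0] := by decide +kernel

theorem c7e : (Ex.mul e7 (.mul (.gen 3) w1)).act q7 (dl 7 0) = [1, 1, 1, 1, 1, 1, 1] := by decide +kernel

theorem c7f : (Ex.mul e7 (.mul (.gen 3) (.mul (.gen 3) w1))).act q7 (dl 7 0) = [1, 1, 1, 1, 1, 1, 1] := by decide +kernel

theorem c72 : (Ex.mul bp e4).act q72 (dl 72 0) = dl 72 0 := by decide +kernel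

def fs : List (List ℕ) := [[1, 0, 0, 0, 0, 0, 0, 0, 0, 0, 0, 0, 0, 0, 0], [0, 0, 0, 0, 0, 0, 0, 0, 0, 0, 0, 0,
  0, 0, 0], [2, 0, 0, 0, 0, 0, 0, 0, 0, 0, 0, 0, 0, 0, 0], [1, 0, 1, 0, 0, 0, 0, 0, 0, 0, 0, 0, 0, 0, 0], [0,
  0, 2, 0, 0, 0, 0, 0, 0, 0, 0, 0, 0, 0, 0], [1, 0, 0, 0, 0, 0, 0, 0, 0, 0, 0, 0, 0, 0, 0], [2, 0, 2, 0, 0, 0,
  0, 0, 0, 0, 0, 0, 0, 0, 0]]

/-- the index of the coset of `l5` -/
def jx : ℕ := 1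

/-- a combination of the relations -/
def hsum : List (List ℕ) → List ℕ
  | [] => (List.range 15).map fun _ => 0
  | f :: l => List.zipWith (fun u v => (u + v) % 3) (eps.act q15 f) ((Ex.gen 2).act q15 (hsum l))

theorem c15 : hsum fs = [1, 2, 0, 0, 0, 0, 0, 0, 0, 0, 0, 0, 0, 0, 0] := by decide +kernel

theorem len15 : ∀ f ∈ fs, f.length = 15 := by decide +kernel

def star : List (List ℕ) := [[], [], [1, 1, 0, 0, 1, 1, 0], [1, 1, 0, 1, 1, 0, 0], [0, 0, 1, 1], [2, 1, 0, 1,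
  2, 0, 1], [2, 2, 0, 1, 0, 1, 0, 0]]

theorem chkStar : ((List.range 7).all fun k => Nat.beq k 0 || (cd 7 (wd g4 (star.getD k [])) == cd 7 [(0, 1), (0, k)]) &&
    (star.getD k []).all fun b => Nat.blt b 3) = true := by decide +kernel

end Cfsg.Agent.R2.T1.N7H
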