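import Cfsg.Agent.R2.T1.N7.Dims

/-!
# S5929, `n = 7`, `p = 3`: elements of `A₇` (helper23)

`lc = (0 1 2 4 5 3 6)`, `lr = (0 1 4)(2 3 5)`; `⟨l42, lc⟩ ≅ L₂(7)` contains `lr`; `⟨l42, lr⟩ ≅ S₄` is the stabilizer of 6 there,
`⟨ly2, lv⟩` its normal Klein four-group, `⟨l42, lv⟩` a Sylow 2-subgroup.
-/

set_option autoImplicit false

namespace Cfsg.Agent.R2.T1.N7H

open Cfsg.Agent.R2.T1.Odd

/-- `(0 1 2 4 5 3 6)` -/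
def lc : List (ℕ × ℕ) := [(0, 1), (1, 2), (2, 4), (4, 5), (5, 3), (3, 6)]

/-- `(0 1 4)(2 3 5)` -/
def lr : List (ℕ × ℕ) := [(0, 1), (1, 4), (2, 3), (3, 5)]

/-- the square of `(0 1 2 3)(4 5)` -/
def ly2 : List (ℕ × ℕ) := l42 ++ l42

/-- `r y² r⁻¹` -/
def lv : List (ℕ × ℕ) := lr ++ (l42 ++ l42) ++ (lr ++ lr)

end Cfsg.Agent.R2.T1.N7H
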