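import Cfsg.Agent.R2.T1.N7.H.Def

/-!
# S5929, `n = 7`, `p = 3`: computing with the images of a vector (helper23)

* `Ex` : expressions in the group algebra; `Ex.op σ` : the operator; `Ex.act q` : the action on the coordinates
  with respect to a family `V i` (`i < n`) permuted by the generators;
* `IsFam σ A n q V` : `σ s (V (q s)[i]) = V i` for `s ∈ A`, `i < n`; `act_op` : compatibility, in characteristic 3;
* `fam_of` : families of images of a vector under words of `A₇`.
-/

set_option autoImplicit false
set_option maxRecDepth 100000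
set_option linter.unusedSectionVars false

namespace Cfsg.Agent.R2.T1.N7H

open Module
open Cfsg.Agent.R2.T1.Odd
open Cfsg.Agent.R2.T1.N7 (A7)

/-- expressions in the group algebra -/
inductive Ex where
  | one : Ex
  | gen (s : ℕ) : Ex
  | add (a b : Ex) : Ex
  | mul (a b : Ex) : Ex
  | neg (a : Ex) : Ex

namespace Ex

/-- the letters belong to `A` -/
def ok (A : List ℕ) : Ex → Bool
  | one => true
  | gen s => A.elem s
  | add a b => a.ok A && b.ok A
  | mul a b => a.ok A && b.ok A
  | neg a => a.ok A

/-- the action on the coordinates -/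
def act (q : ℕ → List ℕ) : Ex → List ℕ → List ℕ
  | one, f => f
  | gen s, f => (q s).map fun j => f.getD j 0
  | add a b, f => List.zipWith (fun u v => (u + v) % 3) (a.act q f) (b.act q f)
  | mul a b, f => a.act q (b.act q f)
  | neg a, f => (a.act q f).map fun u => (2 * u) % 3

/-- a word -/
def wdE : List ℕ → Ex
  | [] => one
  | [s] => gen s
  | s :: l => mul (gen s) (wdE l)

/-- a combination of words with coefficients `1` and `2 = -1` -/
def cb : List (ℕ × List ℕ) → Ex
  | [] => add one (neg one)
  | [e] => if Nat.beq e.1 1 then wdE e.2 else neg (wdE e.2)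
  | e :: l => add (if Nat.beq e.1 1 then wdE e.2 else neg (wdE e.2)) (cb l)

/-- `1 + a + ⋯ + a ^ k` -/
def hn (a : Ex) : ℕ → Ex
  | 0 => one
  | k + 1 => add one (mul a (hn a k))

section op
variable {F M : Type*} [Field F] [AddCommGroup M] [Module F M]

/-- the operator -/
def op (σ : ℕ → Module.End F M) : Ex → Module.End F M
  | one => 1
  | gen s => σ s
  | add a b => a.op σ + b.op σ
  | mul a b => a.op σ * b.op σ
  | neg a => -(a.op σ)

end op

end Ex

section fam
variable {F M : Type*} [Field F] [AddCommGroup M] [Module F M]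

variable (F) in
/-- the combination with given coefficients -/
def Phi (n : ℕ) (V : ℕ → M) (f : List ℕ) : M := ∑ i ∈ Finset.range n, ((f.getD i 0 : ℕ) : F) • V i

/-- a family permuted by the operators -/
structure IsFam (σ : ℕ → Module.End F M) (A : List ℕ) (n : ℕ) (q : ℕ → List ℕ) (V : ℕ → M) : Prop where
  perm : ∀ s ∈ A, (q s).Perm (List.range n)
  eq : ∀ s ∈ A, ∀ i < n, σ s (V ((q s).getD i 0)) = V i

theorem sum_range_getD {N : Type*} [AddCommMonoid N] (G : ℕ → N) {l : List ℕ} {n : ℕ} (hl : l.length = n) :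
    ∑ i ∈ Finset.range n, G (l.getD i 0) = (l.map G).sum := by
  subst hl
  induction l with
  | nil => simp
  | cons a l ih =>
    rw [List.length_cons, Finset.sum_range_succ', List.map_cons, List.sum_cons, ← ih, add_comm]
    simp

theorem range_getD {i n : ℕ} (hi : i < n) : (List.range n).getD i 0 = i := by
  rw [List.getD_eq_getElem _ _ (by rw [List.length_range]; exact hi), List.getElem_range]

theorem sum_perm {N : Type*} [AddCommMonoid N] (G : ℕ → N) {l : List ℕ} {n : ℕ} (hl : l.Perm (List.range n)) :
    ∑ i ∈ Finset.range n, G (l.getD i 0) = ∑ i ∈ Finset.range n, G i := by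
  rw [sum_range_getD G (by rw [hl.length_eq, List.length_range]), (hl.map G).sum_eq,
    ← sum_range_getD G List.length_range]
  exact Finset.sum_congr rfl fun i hi => by rw [range_getD (Finset.mem_range.1 hi)]

theorem getD_zipWith {l l' : List ℕ} (h : l.length = l'.length) (i : ℕ) :
    (List.zipWith (fun u v => (u + v) % 3) l l').getD i 0 = (l.getD i 0 + l'.getD i 0) % 3 := by
  by_cases hi : i < l.length
  · rw [List.getD_eq_getElem _ _ (by rw [List.length_zipWith]; omega), List.getElem_zipWith,
      List.getD_eq_getElem _ _ hi, List.getD_eq_getElem _ _ (by omega)]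
  · rw [List.getD_eq_default _ _ (by rw [List.length_zipWith]; omega), List.getD_eq_default _ _ (by omega),
      List.getD_eq_default _ _ (by omega)]

theorem getD_map {l : List ℕ} {g : ℕ → ℕ} (i : ℕ) (hi : i < l.length) : (l.map g).getD i 0 = g (l.getD i 0) := by
  rw [List.getD_eq_getElem _ _ (by rw [List.length_map]; exact hi), List.getElem_map, List.getD_eq_getElem _ _ hi]

theorem cast_mod (h3 : (3 : F) = 0) (a : ℕ) : ((a % 3 : ℕ) : F) = (a : F) := by
  conv_rhs => rw [← Nat.mod_add_div a 3]
  push_cast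
  rw [h3, zero_mul, add_zero]

variable {σ : ℕ → Module.End F M} {A : List ℕ} {n : ℕ} {q : ℕ → List ℕ} {V : ℕ → M}

theorem act_op (h3 : (3 : F) = 0) (h : IsFam σ A n q V) : ∀ e : Ex, e.ok A = true → ∀ f : List ℕ, f.length = n →
    (e.act q f).length = n ∧ Phi F n V (e.act q f) = e.op σ (Phi F n V f) := by
  intro e
  induction e with
  | one => exact fun _ f hf => ⟨hf, rfl⟩
  | gen s =>
    intro hs f hf
    have hs' : s ∈ A := List.elem_iff.1 hs
    have hp := h.perm s hs'
    have hl : (q s).length = n := by rw [hp.length_eq, List.length_range]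
    refine ⟨by show ((q s).map fun j => f.getD j 0).length = n; rw [List.length_map, hl], ?_⟩
    show ∑ i ∈ Finset.range n, ((((q s).map fun j => f.getD j 0).getD i 0 : ℕ) : F) • V i =
      σ s (∑ i ∈ Finset.range n, ((f.getD i 0 : ℕ) : F) • V i)
    rw [map_sum]
    have h1 := sum_perm (fun j => σ s (((f.getD j 0 : ℕ) : F) • V j)) hp
    rw [← h1]
    refine Finset.sum_congr rfl fun i hi => ?_
    have hi' := Finset.mem_range.1 hi
    rw [getD_map i (by omega), map_smul, h.eq s hs' i hi']
  | add a b iha ihb =>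
    intro hs f hf
    have hs' := Bool.and_eq_true_iff.1 hs
    obtain ⟨ha, ha'⟩ := iha hs'.1 f hf
    obtain ⟨hb, hb'⟩ := ihb hs'.2 f hf
    refine ⟨by show (List.zipWith _ (a.act q f) (b.act q f)).length = n; rw [List.length_zipWith, ha, hb, min_self], ?_⟩
    show Phi F n V _ = (a.op σ + b.op σ) (Phi F n V f)
    rw [LinearMap.add_apply, ← ha', ← hb']
    show ∑ i ∈ Finset.range n, (((List.zipWith (fun u v => (u + v) % 3) (a.act q f) (b.act q f)).getD i 0 : ℕ) : F) • V i =
      ∑ i ∈ Finset.range n, (((a.act q f).getD i 0 : ℕ) : F) • V i + ∑ i ∈ Finset.range n, (((b.act q f).getD i 0 : ℕ) : F) • V i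
    rw [← Finset.sum_add_distrib]
    refine Finset.sum_congr rfl fun i _ => ?_
    rw [getD_zipWith (ha.trans hb.symm), cast_mod h3, Nat.cast_add, add_smul]
  | mul a b iha ihb =>
    intro hs f hf
    have hs' := Bool.and_eq_true_iff.1 hs
    obtain ⟨hb, hb'⟩ := ihb hs'.2 f hf
    obtain ⟨ha, ha'⟩ := iha hs'.1 _ hb
    exact ⟨ha, by show Phi F n V (a.act q (b.act q f)) = a.op σ (b.op σ (Phi F n V f)); rw [ha', hb']⟩
  | neg a iha =>
    intro hs f hf
    obtain ⟨ha, ha'⟩ := iha hs f hf
    refine ⟨by show ((a.act q f).map _).length = n; rw [List.length_map, ha], ?_⟩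
    show Phi F n V _ = -(a.op σ) (Phi F n V f)
    rw [← ha']
    show ∑ i ∈ Finset.range n, ((((a.act q f).map fun u => (2 * u) % 3).getD i 0 : ℕ) : F) • V i =
      -∑ i ∈ Finset.range n, (((a.act q f).getD i 0 : ℕ) : F) • V i
    rw [← Finset.sum_neg_distrib]
    refine Finset.sum_congr rfl fun i hi => ?_
    have hi' := Finset.mem_range.1 hi
    rw [getD_map i (by omega), cast_mod h3, Nat.cast_mul, ← neg_smul]
    congr 1
    push_cast
    linear_combination (((a.act q f).getD i 0 : ℕ) : F) * h3

/-- the coordinates of a member of the family -/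
def dl (n i : ℕ) : List ℕ := (List.range n).map fun j => if Nat.beq j i then 1 else 0

theorem length_dl (n i : ℕ) : (dl n i).length = n := by rw [dl, List.length_map, List.length_range]

theorem Phi_dl {i : ℕ} (hi : i < n) : Phi F n V (dl n i) = V i := by
  have h : ∀ j ∈ Finset.range n, (((dl n i).getD j 0 : ℕ) : F) • V j = if j = i then V i else 0 := by
    intro j hj
    have hj' := Finset.mem_range.1 hj
    rw [dl, getD_map (g := fun j => if Nat.beq j i then 1 else 0) j (by rw [List.length_range]; exact hj'),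
      range_getD hj']
    by_cases h1 : j = i
    · subst h1
      rw [if_pos (Nat.beq_refl j), if_pos rfl, Nat.cast_one, one_smul]
    · rw [if_neg (by rw [nb]; exact h1), if_neg h1, Nat.cast_zero, zero_smul]
  rw [Phi, Finset.sum_congr rfl h, Finset.sum_ite_eq', if_pos (Finset.mem_range.2 hi)]

end fam

/-! ### families of images of a vector -/

section word
variable {F M : Type*} [Field F] [AddCommGroup M] [Module F M] (ρ : Representation F A7 M)

/-- the operators of a list of generators -/
noncomputable def sg (gens : List (List (ℕ × ℕ))) (s : ℕ) : Module.End F M := ρ (P 7 (gens.getD s []))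

/-- the check: `s (W (q s)[i]) = (W i) (U s i)` -/
def chkF (gens : List (List (ℕ × ℕ))) (A B : List ℕ) (n : ℕ) (q : ℕ → List ℕ) (W : List (List ℕ))
    (U : ℕ → List (List ℕ)) : Bool :=
  gens.all (vl 7) && A.all fun s => (List.range n).all fun i =>
    ((U s).getD i []).all (fun b => B.elem b) &&
      (cd 7 (gens.getD s [] ++ wd gens (W.getD ((q s).getD i 0) [])) ==
        cd 7 (wd gens (W.getD i []) ++ wd gens ((U s).getD i [])))

variable {ρ}

theorem fix_wd {gens : List (List (ℕ × ℕ))} (hg : gens.all (vl 7) = true) {B : List ℕ} {w : M}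
    (hw : ∀ b ∈ B, ρ (P 7 (gens.getD b [])) w = w) {u : List ℕ} (hu : u.all (fun b => B.elem b) = true) :
    ρ (P 7 (wd gens u)) w = w := by
  induction u with
  | nil => rw [wd_nil, P_nil, map_one]; rfl
  | cons a u ih =>
    rw [List.all_cons, Bool.and_eq_true] at hu
    rw [wd_cons, P_append (m := 7) le_rfl (vl_getD hg a) (vl_wd hg u), map_mul, Module.End.mul_apply, ih hu.2]
    exact hw a (List.elem_iff.1 hu.1)

theorem fam_of {gens : List (List (ℕ × ℕ))} {A B : List ℕ} {n : ℕ} {q : ℕ → List ℕ} {W : List (List ℕ)}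
    {U : ℕ → List (List ℕ)} (h : chkF gens A B n q W U = true) (hp : ∀ s ∈ A, (q s).Perm (List.range n)) {w : M}
    (hw : ∀ b ∈ B, ρ (P 7 (gens.getD b [])) w = w) :
    IsFam (sg ρ gens) A n q fun i => ρ (P 7 (wd gens (W.getD i []))) w := by
  obtain ⟨hg, h⟩ := Bool.and_eq_true_iff.1 h
  refine ⟨hp, fun s hs i hi => ?_⟩
  have h1 := List.all_eq_true.1 (List.all_eq_true.1 h s hs) i (List.mem_range.2 hi)
  obtain ⟨h2, h4⟩ := Bool.and_eq_true_iff.1 h1
  have h5 := eq_of_beq h4
  have v1 := vl_getD hg s
  have v2 := vl_wd (m := 7) hg (W.getD ((q s).getD i 0) [])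
  have v3 := vl_wd (m := 7) hg (W.getD i [])
  have v4 := vl_wd (m := 7) hg ((U s).getD i [])
  have h6 := (P_eq_iff (n := 7) (m := 7) le_rfl (vl_append v1 v2) (vl_append v3 v4)).2 h5
  rw [P_append (m := 7) le_rfl v1 v2, P_append (m := 7) le_rfl v3 v4] at h6
  show ρ (P 7 (gens.getD s [])) (ρ (P 7 (wd gens (W.getD ((q s).getD i 0) []))) w) = ρ (P 7 (wd gens (W.getD i []))) w
  rw [← Module.End.mul_apply, ← map_mul, h6, map_mul, Module.End.mul_apply, fix_wd hg hw h2]

end word

end Cfsg.Agent.R2.T1.N7H
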